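import Cfsg.Agent.Lib.Presentations.AltCarmichael
import Cfsg.Prelude.Def_SporadicB

/-!
# A double cover of an alternating group from lifted Carmichael generators
-/

set_option autoImplicit false

namespace CfsgLib.LyInvol

open CfsgLib.Presentations

variable {G : Type*} [Group G] {n : ℕ}

/-- Lifts of Carmichael generators whose pairwise products square to a central involution. -/
structure Lifts (t : G) {ι : Type*} (y : ι → G) : Prop where
  sq : t * t = 1
  ne : t ≠ 1
  cube : ∀ i, y i ^ 3 = 1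
  pair : ∀ i j, i ≠ j → (y i * y j) ^ 2 = t
  comm : ∀ i, t * y i = y i * t

theorem lifts_nonsplit (hn : 5 ≤ n) (c₁ c₂ : Fin n) (hc : c₁ ≠ c₂) {t : G}
    {y : Carmichael.Idx c₁ c₂ → G} (L : Lifts t y) :
    Nat.card (Subgroup.closure (Set.range y)) = n.factorial ∧
      t ∈ Subgroup.closure (Set.range y) ∧
      Cfsg.IsNonsplitDoubleCover ↥(Subgroup.closure (Set.range y)) (alternatingGroup (Fin n)) := by
  classical
  set D := Subgroup.closure (Set.range y) with hD
  obtain ⟨i₁, i₂, hi⟩ : ∃ i₁ i₂ : Carmichael.Idx c₁ c₂, i₁ ≠ i₂ := by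
    have h1 : 1 < (((Finset.univ : Finset (Fin n)).erase c₁).erase c₂).card := by
      rw [Finset.card_erase_of_mem (by simp [hc.symm]), Finset.card_erase_of_mem (Finset.mem_univ _),
        Finset.card_univ, Fintype.card_fin]
      omega
    obtain ⟨a, ha, b, hb, hab⟩ := Finset.one_lt_card.1 h1
    simp only [Finset.mem_erase, Finset.mem_univ, and_true] at ha hb
    exact ⟨⟨a, ha.2, ha.1⟩, ⟨b, hb.2, hb.1⟩, fun h => hab (congrArg Subtype.val h)⟩
  have hyD : ∀ i, y i ∈ D := fun i => Subgroup.subset_closure ⟨i, rfl⟩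
  have htD : t ∈ D := L.pair i₁ i₂ hi ▸ pow_mem (mul_mem (hyD _) (hyD _)) 2
  let tD : D := ⟨t, htD⟩
  let yD : Carmichael.Idx c₁ c₂ → D := fun i => ⟨y i, hyD i⟩
  have hgen : Subgroup.closure (Set.range yD) = ⊤ := by
    apply Subgroup.map_injective D.subtype_injective
    rw [MonoidHom.map_closure, ← Set.range_comp, ← MonoidHom.range_eq_map, D.range_subtype]
    rfl
  have htc : tD ∈ Subgroup.center D := by
    refine Subgroup.mem_center_iff.2 fun g => ?_
    have h : D ≤ Subgroup.centralizer {t} := by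
      refine (Subgroup.closure_le _).2 ?_
      rintro _ ⟨i, rfl⟩
      exact Subgroup.mem_centralizer_singleton_iff.2 (L.comm i).symm
    exact Subtype.ext (Subgroup.mem_centralizer_singleton_iff.1 (h g.2))
  set Z := Subgroup.zpowers tD with hZ
  have hZn : Z.Normal := ⟨fun x hx g => by
    rw [Subgroup.mem_center_iff.1 ((Subgroup.zpowers_le.2 htc) hx) g, mul_inv_cancel_right]
    exact hx⟩
  have htD1 : tD ≠ 1 := fun h => L.ne (congrArg Subtype.val h)
  have hZcard : Nat.card Z = 2 := by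
    rw [hZ, Nat.card_zpowers]
    exact orderOf_eq_prime (by rw [pow_two]; exact Subtype.ext L.sq) htD1
  let q : D →* D ⧸ Z := QuotientGroup.mk' Z
  have hrel : Carmichael.CRels fun i => q (yD i) := by
    refine ⟨fun i => ?_, fun i j hij => ?_⟩
    · rw [← map_pow, show yD i ^ 3 = 1 from Subtype.ext (L.cube i), map_one]
    · rw [← map_mul, ← map_pow, show (yD i * yD j) ^ 2 = tD from Subtype.ext (L.pair i j hij)]
      exact (QuotientGroup.eq_one_iff _).2 (Subgroup.mem_zpowers _)
  obtain ⟨Ψ, hΨ⟩ := Carmichael.exists_hom hc (fun i => q (yD i)) hrel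
  have hsurj : Function.Surjective Ψ := by
    rw [← MonoidHom.range_eq_top, eq_top_iff,
      ← MonoidHom.range_eq_top.2 (QuotientGroup.mk'_surjective Z), MonoidHom.range_eq_map, ← hgen,
      MonoidHom.map_closure, Subgroup.closure_le]
    rintro _ ⟨_, ⟨i, rfl⟩, rfl⟩
    exact ⟨_, hΨ i⟩
  have hy_notin : ∀ i, yD i ∈ Z → y i = 1 := by
    intro i hi'
    obtain ⟨k, hk⟩ := Subgroup.mem_zpowers_iff.1 hi'
    have h2 : yD i ^ 2 = 1 := by
      rw [← hk, ← zpow_natCast, ← zpow_mul, mul_comm, zpow_mul, zpow_natCast,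
        show tD ^ 2 = 1 by rw [pow_two]; exact Subtype.ext L.sq, one_zpow]
    have h2' : y i ^ 2 = 1 := congrArg Subtype.val h2
    have h3 := L.cube i
    rwa [pow_succ, h2', one_mul] at h3
  have hne : q (yD i₁) ≠ 1 := fun h => by
    have h1 : y i₁ = 1 := hy_notin _ ((QuotientGroup.eq_one_iff _).1 h)
    have h2 := L.pair i₁ i₂ hi
    rw [h1, one_mul] at h2
    apply L.ne
    have h6 : t ^ 3 = 1 := by rw [← h2, ← pow_mul, show 2 * 3 = 3 * 2 from rfl, pow_mul, L.cube, one_pow]
    rwa [pow_succ, pow_two, L.sq, one_mul] at h6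
  haveI hsimp : IsSimpleGroup (alternatingGroup (Fin n)) :=
    alternatingGroup.isSimpleGroup (by simpa using hn)
  have hinj : Function.Injective Ψ := by
    rw [← MonoidHom.ker_eq_bot_iff]
    refine (inferInstance : Ψ.ker.Normal).eq_bot_or_eq_top.resolve_right fun h => hne ?_
    refine (hΨ i₁).symm.trans ?_
    exact MonoidHom.mem_ker.1 (h ▸ Subgroup.mem_top _)
  let e : alternatingGroup (Fin n) ≃* D ⧸ Z := MulEquiv.ofBijective Ψ ⟨hinj, hsurj⟩
  haveI : Nontrivial (Fin n) := ⟨⟨c₁, c₂, hc⟩⟩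
  have hA : 2 * Nat.card (alternatingGroup (Fin n)) = n.factorial := by
    rw [two_mul_nat_card_alternatingGroup, Nat.card_perm, Nat.card_fin]
  have hcard : Nat.card D = n.factorial := by
    rw [Z.card_eq_card_quotient_mul_card_subgroup, hZcard, ← Nat.card_congr e.toEquiv, mul_comm, hA]
  have hcen : Subgroup.center (alternatingGroup (Fin n)) = ⊥ :=
    alternatingGroup.center_eq_bot (by rw [Nat.card_fin]; omega)
  have hcenter : Subgroup.center D = Z := by
    refine le_antisymm (fun z hz => ?_) (Subgroup.zpowers_le.2 htc)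
    have hmem : e.symm (q z) ∈ Subgroup.center (alternatingGroup (Fin n)) := by
      refine Subgroup.mem_center_iff.2 fun a => e.injective ?_
      obtain ⟨u, hu⟩ := QuotientGroup.mk'_surjective Z (e a)
      rw [map_mul, map_mul, MulEquiv.apply_symm_apply, ← hu]
      show q u * q z = q z * q u
      rw [← map_mul, ← map_mul, Subgroup.mem_center_iff.1 hz u]
    rw [hcen, Subgroup.mem_bot, EmbeddingLike.map_eq_one_iff] at hmem
    exact (QuotientGroup.eq_one_iff z).1 hmem
  refine ⟨hcard, htD, hcenter ▸ hZcard,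
    ⟨(QuotientGroup.quotientMulEquivOfEq hcenter).trans e.symm⟩, fun M hM => ?_⟩
  rw [hcenter] at hM
  have hy : ∀ i, yD i ∈ M := by
    intro i
    obtain ⟨⟨⟨z, hz⟩, ⟨l, hl⟩⟩, hzl⟩ := hM.existsUnique (yD i) |>.exists
    have hzl' : z * l = yD i := hzl
    have hzc : Commute z l := (Subgroup.mem_center_iff.1 (Subgroup.zpowers_le.2 htc hz) l).symm
    have h3 : z ^ 3 * l ^ 3 = 1 := by
      rw [← hzc.mul_pow, hzl']
      exact Subtype.ext (L.cube i)
    have hz3 : z ^ 3 = z := by
      obtain ⟨k, rfl⟩ := Subgroup.mem_zpowers_iff.1 hz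
      have ht2 : (tD ^ k) ^ 2 = 1 := by
        rw [← zpow_natCast, ← zpow_mul, mul_comm, zpow_mul, zpow_natCast, pow_two,
          show tD * tD = 1 from Subtype.ext L.sq, one_zpow]
      rw [pow_succ, ht2, one_mul]
    have hzM : z ∈ M := by
      rw [← hz3, eq_inv_of_mul_eq_one_left h3]
      exact inv_mem (pow_mem hl 3)
    have : z = 1 := Subgroup.disjoint_def.1 hM.disjoint hz hzM
    rwa [← hzl', this, one_mul]
  have hMtop : M = ⊤ := top_le_iff.1 (hgen ▸ (Subgroup.closure_le _).2 (by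
    rintro _ ⟨i, rfl⟩; exact hy i))
  exact htD1 (Subgroup.disjoint_def.1 hM.disjoint (Subgroup.mem_zpowers tD) (hMtop ▸ Subgroup.mem_top _))

end CfsgLib.LyInvol
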